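import Cfsg.Agent.Lib.Invol.StronglyEmbeddedOrbits
import Mathlib.GroupTheory.Transfer
import Mathlib.GroupTheory.Sylow

/-!
# Tightly embedded subgroups with odd intersections: tools

Two evaluations of the transfer, and the parts of an element of two-power and of odd order.
-/

set_option autoImplicit false
set_option linter.style.haveILetI false

namespace CfsgLib.Tight

open Subgroup

variable {G : Type*} [Group G]

/-- The transfer at an element all of whose conjugates are in the subgroup, with one value. -/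
theorem transfer_eq_pow [Finite G] {H : Subgroup G} {A : Type*} [CommGroup A] (χ : H →* A) {x : G} {a : A}
    (hall : ∀ g : G, ∃ h : g⁻¹ * x * g ∈ H, χ ⟨g⁻¹ * x * g, h⟩ = a) :
    MonoidHom.transfer χ x = a ^ H.index := by
  classical
  haveI : H.FiniteIndex := ⟨index_ne_zero_of_finite⟩
  letI := Fintype.ofFinite (Quotient (MulAction.orbitRel (zpowers x) (G ⧸ H)))
  have hfix : ∀ b : G ⧸ H, x • b = b := fun b => by
    obtain ⟨g, rfl⟩ := QuotientGroup.mk_surjective b
    obtain ⟨hm, -⟩ := hall g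
    rw [MulAction.Quotient.smul_coe, smul_eq_mul, QuotientGroup.eq]
    simpa [mul_assoc] using inv_mem hm
  have horb : ∀ b c : G ⧸ H, c ∈ MulAction.orbit (zpowers x) b → c = b := by
    rintro b c ⟨⟨y, hy⟩, rfl⟩
    exact MulAction.mem_stabilizer_iff.1 (zpowers_le.2 (MulAction.mem_stabilizer_iff.2 (hfix b)) hy)
  rw [MonoidHom.transfer_eq_prod_quotient_orbitRel_zpowers_quot,
    Finset.prod_congr rfl (g := fun _ => a) fun q _ => ?_, Finset.prod_const, Finset.card_univ,
    ← Nat.card_eq_fintype_card]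
  · congr 1
    refine Nat.card_eq_of_bijective (fun q => q.out) ⟨fun q q' e => ?_, fun b => ⟨Quotient.mk _ b, ?_⟩⟩
    · rw [← Quotient.out_eq q, show q.out = q'.out from e, Quotient.out_eq]
    · exact horb b _ (MulAction.orbitRel_apply.1 (Quotient.exact (Quotient.out_eq _)))
  · obtain ⟨hm, hv⟩ := hall q.out.out
    refine (congrArg χ (Subtype.ext ?_)).trans hv
    show q.out.out⁻¹ * x ^ _ * q.out.out = q.out.out⁻¹ * x * q.out.out
    rw [Function.minimalPeriod_eq_one_iff_isFixedPt.2 (hfix _), pow_one]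

/-- The transfer at an element whose powers conjugate into the subgroup only at trivial values. -/
theorem transfer_eq_one [Finite G] {H : Subgroup G} {A : Type*} [CommGroup A] (χ : H →* A) {x : G}
    (hterm : ∀ (g : G) (k : ℕ) (h : g⁻¹ * x ^ k * g ∈ H), χ ⟨g⁻¹ * x ^ k * g, h⟩ = 1) :
    MonoidHom.transfer χ x = 1 := by
  classical
  haveI : H.FiniteIndex := ⟨index_ne_zero_of_finite⟩
  letI := Fintype.ofFinite (Quotient (MulAction.orbitRel (zpowers x) (G ⧸ H)))
  rw [MonoidHom.transfer_eq_prod_quotient_orbitRel_zpowers_quot]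
  exact Finset.prod_eq_one fun q _ => hterm _ _ _

/-- An element of odd order has trivial image in a two-group. -/
theorem map_eq_one_of_odd {A : Type*} [Group A] (hA : IsPGroup 2 A) (f : G →* A) {x : G}
    (hx : Odd (orderOf x)) : f x = 1 := by
  obtain ⟨k, hk⟩ := hA (f x)
  have h1 : orderOf (f x) ∣ Nat.gcd (orderOf x) (2 ^ k) :=
    Nat.dvd_gcd (orderOf_map_dvd f x) (orderOf_dvd_of_pow_eq_one hk)
  rw [Nat.Coprime.gcd_eq_one ((Nat.coprime_two_right.2 hx).pow_right k)] at h1
  exact orderOf_eq_one_iff.1 (Nat.dvd_one.1 h1)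

/-- Every element is a product of a two-element and an element of odd order in its powers. -/
theorem exists_two_odd [Finite G] (x : G) :
    ∃ i j : ℕ, x = x ^ i * x ^ j ∧ (∃ a : ℕ, (x ^ i) ^ 2 ^ a = 1) ∧ Odd (orderOf (x ^ j)) := by
  obtain ⟨a, b, hb, hab⟩ := Nat.exists_eq_two_pow_mul_odd (orderOf_pos x).ne'
  have hcop : Nat.Coprime (2 ^ a) b := (Nat.coprime_two_left.2 hb).pow_left a
  obtain ⟨i, hi1, hi2⟩ := Nat.chineseRemainder hcop 1 0
  obtain ⟨j, hj1, hj2⟩ := Nat.chineseRemainder hcop 0 1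
  refine ⟨i, j, ?_, ⟨a, ?_⟩, ?_⟩
  · rw [← pow_add]
    nth_rw 1 [← pow_one x]
    rw [pow_eq_pow_iff_modEq, hab, ← Nat.modEq_and_modEq_iff_modEq_mul hcop]
    exact ⟨by simpa using (hi1.add hj1).symm, by simpa using (hi2.add hj2).symm⟩
  · rw [← pow_mul, ← orderOf_dvd_iff_pow_eq_one, hab, mul_comm i]
    exact mul_dvd_mul_left _ (Nat.modEq_zero_iff_dvd.1 hi2)
  · refine hb.of_dvd_nat (orderOf_dvd_of_pow_eq_one ?_)
    rw [← pow_mul, ← orderOf_dvd_iff_pow_eq_one, hab]
    exact mul_dvd_mul_right (Nat.modEq_zero_iff_dvd.1 hj1) _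

/-- The elements of a finite group are generated by a Sylow two-subgroup and the elements of odd order. -/
theorem sylow_sup_odd [Finite G] (P : Sylow 2 G) :
    (P : Subgroup G) ⊔ Subgroup.closure {a : G | Odd (orderOf a)} = ⊤ := by
  haveI : Fact (Nat.Prime 2) := ⟨Nat.prime_two⟩
  set R := Subgroup.closure {a : G | Odd (orderOf a)} with hR
  haveI hn : R.Normal := ⟨fun a ha m => by
    have h1 : R.map (MulAut.conj m).toMonoidHom ≤ R := by
      rw [hR, MonoidHom.map_closure]
      refine closure_mono ?_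
      rintro _ ⟨v, hv, rfl⟩
      show Odd (orderOf (MulAut.conj m v))
      rw [MulEquiv.orderOf_eq]; exact hv
    exact h1 ⟨a, ha, rfl⟩⟩
  have h2 : IsPGroup 2 (G ⧸ R) := fun y => by
    obtain ⟨x, rfl⟩ := QuotientGroup.mk'_surjective R y
    obtain ⟨i, j, he, ⟨a, ha⟩, hj⟩ := exists_two_odd x
    refine ⟨a, ?_⟩
    rw [he, map_mul, show QuotientGroup.mk' R (x ^ j) = 1 from
      (QuotientGroup.eq_one_iff _).2 (subset_closure hj), mul_one, ← map_pow, ha, map_one]
  obtain ⟨k, hk⟩ := h2.exists_card_eq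
  rw [← index_eq_card] at hk
  have hd : ((P : Subgroup G) ⊔ R).index ∣ 2 ^ k := hk ▸ index_dvd_of_le le_sup_right
  obtain ⟨m, -, hm⟩ := (Nat.dvd_prime_pow Nat.prime_two).1 hd
  refine index_eq_one.1 ?_
  rcases m with _ | m
  · simpa using hm
  · exfalso
    exact P.not_dvd_index ((Dvd.intro_left (2 ^ m) (pow_succ 2 m).symm).trans
      (hm ▸ index_dvd_of_le le_sup_left))

/-- An element of odd order fixes an abelian two-group with one involution that it normalises. -/
theorem fixed_of_odd [Finite G] {Z : Subgroup G} [IsMulCommutative Z] {b : G} (hZ : IsPGroup 2 Z)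
    (hone : ∀ u ∈ Z, ∀ v ∈ Z, orderOf u = 2 → orderOf v = 2 → u = v)
    (hbZ : ∀ w ∈ Z, b * w * b⁻¹ ∈ Z) (hb : Odd (orderOf b)) : ∀ w ∈ Z, b * w * b⁻¹ = w := by
  suffices H : ∀ (k : ℕ), ∀ w ∈ Z, w ^ 2 ^ k = 1 → b * w * b⁻¹ = w by
    intro w hw
    obtain ⟨k, hk⟩ := hZ ⟨w, hw⟩
    exact H k w hw (congrArg Subtype.val hk)
  intro k
  induction k with
  | zero => intro w _ hw; rw [pow_zero, pow_one] at hw; rw [hw]; simp
  | succ k ih =>
    intro w hw hk
    have h2 := ih (w * w) (mul_mem hw hw) (by rw [← pow_two, ← pow_mul, ← pow_succ', hk])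
    set v := w⁻¹ * (b * w * b⁻¹) with hv
    have hc : Commute w⁻¹ (b * w * b⁻¹) := congrArg Subtype.val
      (mul_comm' (⟨w⁻¹, inv_mem hw⟩ : Z) ⟨_, hbZ w hw⟩)
    have hv2 : v * v = 1 := by
      rw [hv, hc.symm.mul_mul_mul_comm, show b * w * b⁻¹ * (b * w * b⁻¹) = b * (w * w) * b⁻¹ by group, h2,
        ← mul_inv_rev, inv_mul_cancel]
    by_cases h1 : v = 1
    · exact (inv_mul_eq_one.1 h1).symm
    have hvZ : v ∈ Z := mul_mem (inv_mem hw) (hbZ w hw)
    have hvo : orderOf v = 2 := CfsgLib.Invol.invol_iff.2 ⟨hv2, h1⟩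
    have hfix : b * v * b⁻¹ = v := hone _ (hbZ v hvZ) v hvZ (CfsgLib.Invol.invol_conj hvo b) hvo
    have hpow : ∀ j : ℕ, b ^ j * w * (b ^ j)⁻¹ = w * v ^ j := by
      intro j
      induction j with
      | zero => simp
      | succ j ihj =>
        calc b ^ (j + 1) * w * (b ^ (j + 1))⁻¹ = b * (b ^ j * w * (b ^ j)⁻¹) * b⁻¹ := by rw [pow_succ']; group
          _ = b * w * b⁻¹ * (b * v * b⁻¹) ^ j := by rw [ihj, conj_pow]; group
          _ = w * v ^ (j + 1) := by
              rw [hfix, show b * w * b⁻¹ = w * v by rw [hv, mul_inv_cancel_left], pow_succ', mul_assoc]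
    have h3 := hpow (orderOf b)
    rw [pow_orderOf_eq_one, one_mul, inv_one, mul_one, left_eq_mul] at h3
    have h4 : orderOf v ∣ orderOf b := orderOf_dvd_of_pow_eq_one h3
    rw [hvo] at h4
    exact absurd (even_iff_two_dvd.2 h4) (Nat.not_even_iff_odd.2 hb)
where
  mul_comm' {H : Subgroup G} [IsMulCommutative H] (a c : H) : a * c = c * a :=
    IsMulCommutative.is_comm.comm a c

end CfsgLib.Tight
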