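import Cfsg.Agent.Lib.Invol.Tight.Tools
import Cfsg.Agent.Lib.Invol.SECriterion.Consumers.Statement
import Cfsg.Agent.Lib.Invol.SECriterion.Shape.Rank
import Cfsg.Agent.Lib.Invol.ZStar
import Cfsg.Agent.Lib.Bender.RankOne
import Cfsg.Agent.Lib.RootSub.Setup2

/-!
# The normal closure of a tightly embedded subgroup: involutions outside the closure of one involution

`M` is core-free, normalises `Q`, `z` is an involution of `Q` all of whose commuting fusion is in `M`, all
involutions of `Q` are conjugates of `z`, and `M` meets `L = <z^G>` in a strongly embedded subgroup of `L`.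
Then the involutions of `M` in `<Q^G>` lie in `L`; if `L` has two commuting involutions all two-elements of
`Q` lie in `L`.
-/

set_option autoImplicit false
set_option linter.style.haveILetI false
set_option linter.unusedSectionVars false

namespace CfsgLib.Tight

open CfsgLib.Invol Subgroup

universe u

variable {G : Type u} [Group G]

/-- The situation modulo the core of the normalizer. -/
structure Red (M Q : Subgroup G) (z : G) : Prop where
  invol : orderOf z = 2
  mem : z ∈ Q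
  le : Q ≤ M
  norm : M ≤ normalizer (Q : Set G)
  fuse : ∀ g : G, g * z * g⁻¹ ∈ M → g ∈ M
  core : M.normalCore = ⊥
  conj : ∀ u ∈ Q, orderOf u = 2 → IsConj z u
  se : Cfsg.IsStronglyEmbedded (M.subgroupOf (normalClosure ({z} : Set G)))

namespace Red

variable [Finite G] {M Q : Subgroup G} {z : G} (h : Red M Q z)
include h

theorem mem_closure : z ∈ normalClosure ({z} : Set G) := subset_normalClosure (Set.mem_singleton z)

theorem mem_closure_of_invol {u : G} (hu : u ∈ Q) (huo : orderOf u = 2) :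
    u ∈ normalClosure ({z} : Set G) := by
  obtain ⟨g, rfl⟩ := isConj_iff.1 (h.conj u hu huo)
  exact normalClosure_normal.conj_mem z h.mem_closure g

/-- `G = L M`. -/
theorem exists_eq_mul (g : G) : ∃ l ∈ normalClosure ({z} : Set G), ∃ n ∈ M, g = l * n := by
  set L := normalClosure ({z} : Set G)
  have hL : g * z * g⁻¹ ∈ L := normalClosure_normal.conj_mem z h.mem_closure g
  obtain ⟨l, hl⟩ := isConj_iff.1 (exists_conj_fixing h.se
    (i := (⟨z, h.mem_closure⟩ : L)) (w := ⟨_, hL⟩) (by rw [Subgroup.orderOf_mk]; exact h.invol)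
    (by rw [Subgroup.orderOf_mk]; exact invol_conj h.invol g))
  have hl' : (l : G) * z * (l : G)⁻¹ = g * z * g⁻¹ := congrArg Subtype.val hl
  refine ⟨l, l.2, (l : G)⁻¹ * g, h.fuse _ ?_, by rw [mul_inv_cancel_left]⟩
  have : (l : G)⁻¹ * g * z * ((l : G)⁻¹ * g)⁻¹ = z := by
    rw [show (l : G)⁻¹ * g * z * ((l : G)⁻¹ * g)⁻¹ = (l : G)⁻¹ * (g * z * g⁻¹) * l by group, ← hl']
    group
  rw [this]
  exact h.le h.mem

/-- The conjugates of `Q` lie in `N Q` for a normal `N` with `G = N M`. -/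
theorem closure_le {N : Subgroup G} [hN : N.Normal] (hNM : ∀ g : G, ∃ l ∈ N, ∃ n ∈ M, g = l * n) :
    normalClosure (Q : Set G) ≤ N ⊔ Q := by
  haveI : (N ⊔ Q).Normal := ⟨fun x hx g => by
    obtain ⟨l, hl, n, hn, rfl⟩ := hNM g
    obtain ⟨m, hm, q, hq, rfl⟩ := mem_sup_of_normal_left.1 hx
    have e : l * n * (m * q) * (l * n)⁻¹ = l * ((n * m * n⁻¹) * (n * q * n⁻¹)) * l⁻¹ := by group
    rw [e]
    exact mul_mem (mul_mem (mem_sup_left hl) (mul_mem (mem_sup_left (hN.conj_mem m hm n))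
      (mem_sup_right ((mem_normalizer_iff.1 (h.norm hn) q).1 hq)))) (inv_mem (mem_sup_left hl))⟩
  exact normalClosure_le_normal fun q hq => mem_sup_right hq

/-- No pair in `L`: then `G` is its odd core times `M`, inside `L`. -/
theorem exists_odd_of_not_pair (hp : ¬ CfsgLib.Bender.HasPair ↥(normalClosure ({z} : Set G))) :
    ∃ N : Subgroup G, N.Normal ∧ N ≤ normalClosure ({z} : Set G) ∧ Odd (Nat.card N) ∧
      ∀ g : G, ∃ l ∈ N, ∃ n ∈ M, g = l * n := by
  set L := normalClosure ({z} : Set G) with hL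
  haveI : L.Normal := normalClosure_normal
  haveI : (Cfsg.oddCore ↥L).Characteristic := CfsgLib.Coprime.pPrimeCore_characteristic 2
  set N := (Cfsg.oddCore ↥L).map L.subtype with hN
  haveI hNn : N.Normal := by rw [hN]; infer_instance
  have hsup := CfsgLib.Bender.oddCore_sup_eq_top h.se hp
  refine ⟨N, hNn, map_subtype_le _, ?_, fun g => ?_⟩
  · rw [← Nat.not_even_iff_odd, even_iff_two_dvd, hN, card_map_of_injective (subtype_injective _)]
    exact CfsgLib.Coprime.pPrimeCore_not_dvd Nat.prime_two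
  · obtain ⟨l, hl, n, hn, rfl⟩ := h.exists_eq_mul g
    have : (⟨l, hl⟩ : L) ∈ Cfsg.oddCore ↥L ⊔ M.subgroupOf L := hsup ▸ mem_top _
    obtain ⟨o, ho, m, hm, he⟩ := mem_sup_of_normal_left.1 this
    exact ⟨o, ⟨o, ho, rfl⟩, m * n, mul_mem hm hn, by
      rw [← mul_assoc, show (o : G) * m = l from congrArg Subtype.val he]⟩

/-- The strongly embedded subgroup is core-free in `L`. -/
theorem core_subgroupOf : (M.subgroupOf (normalClosure ({z} : Set G))).normalCore = ⊥ := by
  set L := normalClosure ({z} : Set G)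
  rw [eq_bot_iff]
  intro c hc
  have hcore : (c : G) ∈ M.normalCore := by
    intro g
    obtain ⟨l, hl, n, hn, he⟩ := h.exists_eq_mul g⁻¹
    have e1 : g * (c : G) * g⁻¹ = n⁻¹ * ((l⁻¹ : G) * c * l) * n := by
      rw [show g = n⁻¹ * l⁻¹ by rw [← mul_inv_rev, ← he, inv_inv]]; group
    rw [e1]
    refine mul_mem (mul_mem (inv_mem hn) ?_) hn
    have h1 : (⟨l, hl⟩ : L)⁻¹ * c * ((⟨l, hl⟩ : L)⁻¹)⁻¹ ∈ M.subgroupOf L := hc _
    simpa [mem_subgroupOf] using h1
  rw [h.core, mem_bot] at hcore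
  exact mem_bot.2 (Subtype.ext hcore)

/-- **With a pair in `L` every two-element of `Q` lies in `L`.** -/
theorem two_mem_closure (hp : CfsgLib.Bender.HasPair ↥(normalClosure ({z} : Set G))) :
    ∀ (k : ℕ), ∀ u ∈ Q, u ^ 2 ^ k = 1 → u ∈ normalClosure ({z} : Set G) := by
  classical
  set L := normalClosure ({z} : Set G) with hL
  haveI : L.Normal := normalClosure_normal
  obtain ⟨S, hSle, hSn, hS2, hreg⟩ :=
    CfsgLib.Bender.Full.fullStatement ↥L (M.subgroupOf L) h.se h.core_subgroupOf hp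
  have hD : SECrit.Shape.Data (M.subgroupOf L) S := ⟨h.se, h.core_subgroupOf, hp, hSle, hSn, hS2, hreg⟩
  obtain ⟨t, hset⟩ := hD.exists_setup
  set a : L ⧸ M.subgroupOf L := ((1 : L) : L ⧸ M.subgroupOf L) with ha
  have hstab : ∀ x : L, x ∈ MulAction.stabilizer L a ↔ (x : G) ∈ M := fun x => by
    rw [MulAction.mem_stabilizer_iff, ha, MulAction.Quotient.smul_coe, smul_eq_mul, mul_one,
      QuotientGroup.eq, mul_one, inv_mem_iff, mem_subgroupOf]
  -- a point free element of the torus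
  obtain ⟨k, hkJ, hk⟩ : ∃ k : L, k ∈ Cfsg.invertedBy
      (MulAction.stabilizer L a ⊓ MulAction.stabilizer L (t • a)) t ∧
      ∀ s ∈ S, k * s * k⁻¹ = s → s = 1 := by
    obtain ⟨i, hi⟩ := CfsgLib.RootSub.Setup.exists_involution hset
    have hiQ := CfsgLib.RootSub.Setup.involution_mem_Q hset hi
    obtain ⟨j, hj, hji⟩ : ∃ j, j ∈ Cfsg.involutionsIn (MulAction.stabilizer L a : Set L) ∧ j ≠ i := by
      by_contra hno
      push Not at hno
      have h2 := hD.two_lt_card_invol
      have hle : Nat.card {x : S // x * x = 1} ≤ Nat.card (Fin 2) := by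
        refine Nat.card_le_card_of_injective (fun x => if x.1 = 1 then (0 : Fin 2) else 1) fun x y hxy => ?_
        have key : ∀ w : {x : S // x * x = 1}, w.1 ≠ 1 → ((w.1 : S) : L) = i := fun w hw => hno _
          ⟨(hstab _).2 (hSle w.1.2), fun e => hw (Subtype.ext e), congrArg Subtype.val w.2⟩
        by_cases hx : x.1 = 1 <;> by_cases hy : y.1 = 1 <;> simp only [hx, hy, if_true, if_false] at hxy
        · exact Subtype.ext (hx.trans hy.symm)
        · exact absurd hxy (by decide)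
        · exact absurd hxy (by decide)
        · exact Subtype.ext (Subtype.ext ((key x hx).trans (key y hy).symm))
      rw [Nat.card_fin] at hle
      omega
    obtain ⟨⟨k, hkJ⟩, hk⟩ := (CfsgLib.RootSub.Setup.conj_bijective hset hi).2 ⟨j, hj⟩
    have hk' : k⁻¹ * i * k = j := congrArg Subtype.val hk
    refine ⟨k, hkJ, fun s hs hfix => ?_⟩
    by_contra hs1
    -- an involution fixed by `k`
    obtain ⟨n, hn⟩ := hS2 ⟨s, hs⟩
    have hsn : s ^ 2 ^ n = 1 := congrArg Subtype.val hn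
    obtain ⟨w, hwS, hw, hkw⟩ : ∃ w ∈ S, orderOf w = 2 ∧ k * w * k⁻¹ = w := by
      have hev : Even (orderOf s) := by
        obtain ⟨m, -, hm⟩ := (Nat.dvd_prime_pow Nat.prime_two).1 (orderOf_dvd_of_pow_eq_one hsn)
        rcases m with _ | m
        · rw [pow_zero, orderOf_eq_one_iff] at hm; exact absurd hm hs1
        · exact ⟨2 ^ m, by rw [hm]; ring⟩
      exact ⟨s ^ (orderOf s / 2), pow_mem hs _, orderOf_pow_half hev, by rw [← conj_pow, hfix]⟩
    have hwI : w ∈ Cfsg.involutionsIn (MulAction.stabilizer L a : Set L) :=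
      ⟨(hstab _).2 (hSle hwS), invol_ne_one hw, invol_mul_self hw⟩
    have hinj := (CfsgLib.RootSub.Setup.conj_bijective hset hwI).1
    have h1 : (1 : L) ∈ Cfsg.invertedBy (MulAction.stabilizer L a ⊓ MulAction.stabilizer L (t • a)) t :=
      ⟨one_mem _, by rw [mul_one, inv_one, mul_inv_cancel]⟩
    have hk1 : k = 1 := congrArg Subtype.val (hinj (a₁ := ⟨k, hkJ⟩) (a₂ := ⟨1, h1⟩) (Subtype.ext (by
      show k⁻¹ * w * k = (1 : L)⁻¹ * w * 1
      rw [inv_one, one_mul, mul_one]
      conv_lhs => rw [← hkw]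
      group)))
    exact hji (by rw [← hk', hk1, inv_one, one_mul, mul_one])
  intro n
  induction n with
  | zero => intro u _ hu; rw [pow_zero, pow_one] at hu; rw [hu]; exact one_mem _
  | succ n ih =>
    intro u hu huk
    have hu2 : u * u ∈ L := ih _ (mul_mem hu hu) (by rw [← pow_two, ← pow_mul, ← pow_succ', huk])
    by_contra huL
    have huM : u ∈ M := h.le hu
    have huS : ∀ s : L, s ∈ S → (⟨u * s * u⁻¹, (inferInstance : L.Normal).conj_mem _ s.2 u⟩ : L) ∈ S := by
      intro s hs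
      obtain ⟨m, hm⟩ := hS2 ⟨s, hs⟩
      refine hD.mem_of_two (k := m) (show u * s * u⁻¹ ∈ M from
        mul_mem (mul_mem huM (hSle hs)) (inv_mem huM)) (Subtype.ext ?_)
      rw [SubmonoidClass.coe_pow, conj_pow, ← SubmonoidClass.coe_pow,
        show (s : L) ^ 2 ^ m = 1 from congrArg Subtype.val hm]
      simp
    -- the part fixing the second point
    set c : G := (t : G) with hc
    have hcM : c ∉ M := fun e => hset.not_mem ((hstab t).2 e)
    obtain ⟨l, hl, m', hm', hlm⟩ := h.exists_eq_mul (u * c)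
    have hlM : (⟨l, hl⟩ : L) ∉ M.subgroupOf L := fun e => hcM (by
      have : u * c ∈ M := hlm ▸ mul_mem (show l ∈ M from e) hm'
      simpa using mul_mem (inv_mem huM) this)
    have htM : t ∉ M.subgroupOf L := hcM
    obtain ⟨s, ⟨hs, hst⟩, -⟩ := hreg ⟨l, hl⟩ t hlM htM
    set v := (s : G) * u with hv
    have hvM : v ∈ M := mul_mem (hSle hs) huM
    have hvc : c⁻¹ * v * c ∈ M := by
      have h1 : c⁻¹ * ((s : G) * l) ∈ M := hst
      rw [show c⁻¹ * v * c = c⁻¹ * ((s : G) * l) * m' by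
        rw [hv, show c⁻¹ * ((s : G) * u) * c = c⁻¹ * (s : G) * (u * c) by group, hlm]; group]
      exact mul_mem h1 hm'
    have hD1 : ∀ x : L, (x : G) ∈ M → c⁻¹ * (x : G) * c ∈ M →
        x ∈ MulAction.stabilizer L a ⊓ MulAction.stabilizer L (t • a) := fun x hx hxc => by
      refine ⟨(hstab x).2 hx, ?_⟩
      show x • (t • a) = t • a
      rw [smul_smul, ← eq_inv_smul_iff, smul_smul, eq_comm,
        ← MulAction.mem_stabilizer_iff, hstab]
      simpa [mul_assoc] using inv_mem hxc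
    -- `v` is a two-element
    have hvpow : ∃ j : ℕ, v ^ 2 ^ j = 1 := by
      set T := S.map L.subtype with hT
      have huT : u ∈ normalizer (T : Set G) := by
        rw [mem_normalizer_iff_map_conj_eq]
        refine Subgroup.eq_of_le_of_card_ge ?_
          (Nat.card_congr (Subgroup.equivMapOfInjective T _ (MulAut.conj u).injective).toEquiv).le
        rintro _ ⟨_, ⟨x, hx, rfl⟩, rfl⟩
        exact ⟨_, huS x hx, rfl⟩
      have hR : IsPGroup 2 (zpowers u ⊔ T : Subgroup G) := by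
        haveI : Fact (Nat.Prime 2) := ⟨Nat.prime_two⟩
        refine IsPGroup.to_sup_of_normal_right' ?_ (hS2.map _) (zpowers_le.2 huT)
        rintro ⟨_, i, rfl⟩
        exact ⟨n + 1, Subtype.ext (show (u ^ i) ^ 2 ^ (n + 1) = 1 by
          rw [← zpow_natCast, zpow_comm, zpow_natCast, huk, one_zpow])⟩
      obtain ⟨j, hj⟩ := hR ⟨v, mul_mem (mem_sup_right ⟨s, hs, rfl⟩) (mem_sup_left (mem_zpowers u))⟩
      exact ⟨j, congrArg Subtype.val hj⟩
    have hv2L : v * v ∈ L := by
      rw [hv, show (s : G) * u * ((s : G) * u) = (s : G) * (u * s * u⁻¹) * (u * u) by group]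
      exact mul_mem (mul_mem s.2 ((inferInstance : L.Normal).conj_mem _ s.2 u)) hu2
    have hvv : v * v = 1 := by
      have hmem := hD1 ⟨v * v, hv2L⟩ (mul_mem hvM hvM) (by
        simpa [mul_assoc] using mul_mem hvc hvc)
      obtain ⟨j, hj⟩ := hvpow
      have := CfsgLib.Bender.Full.eq_of_two_element hset.odd_card hmem (k := j) (Subtype.ext (by
        simp only [SubmonoidClass.coe_pow, OneMemClass.coe_one, ← pow_two, ← pow_mul]
        rw [mul_comm, pow_mul, hj, one_pow]))
      exact congrArg Subtype.val this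
    have hvL : v ∉ L := fun e => huL (by simpa [hv] using mul_mem (inv_mem s.2) e)
    refine hvL (h.mem_closure_of_invol ?_ (invol_iff.2 ⟨hvv, fun e => hvL (e ▸ one_mem _)⟩))
    -- `s` lies in `Q`
    have hconjQ : ∀ x ∈ M, ∀ q ∈ Q, x * q * x⁻¹ ∈ Q := fun x hx q hq =>
      (mem_normalizer_iff.1 (h.norm hx) q).1 hq
    haveI : (Q.subgroupOf M).Normal := (normal_subgroupOf_iff_le_normalizer h.le).2 h.norm
    set π := QuotientGroup.mk' (Q.subgroupOf M) with hπ
    have hπ1 : ∀ x : M, π x = 1 ↔ (x : G) ∈ Q := fun x => by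
      rw [hπ, QuotientGroup.mk'_apply, QuotientGroup.eq_one_iff, mem_subgroupOf]
    have hkQ : (s : G) * k * (s : G)⁻¹ * (k : G)⁻¹ ∈ Q := by
      have hkM : (k : G) ∈ M := (hstab k).1 hkJ.1.1
      set e : G := v * k * v⁻¹ * (k : G)⁻¹ with he
      have hkc : c⁻¹ * (k : G) * c ∈ M := by
        have h1 := MulAction.mem_stabilizer_iff.1 hkJ.1.2
        rw [smul_smul, ← eq_inv_smul_iff, smul_smul, eq_comm, ← MulAction.mem_stabilizer_iff, hstab] at h1
        simpa [mul_assoc] using inv_mem h1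
      have hvinv : v⁻¹ = v := inv_eq_of_mul_eq_one_right hvv
      have heM : e ∈ M := mul_mem (mul_mem (mul_mem hvM hkM) (inv_mem hvM)) (inv_mem hkM)
      have heL : e ∈ L := mul_mem ((inferInstance : L.Normal).conj_mem _ k.2 v) (inv_mem k.2)
      have hec : c⁻¹ * e * c ∈ M := by
        rw [he, show c⁻¹ * (v * k * v⁻¹ * (k : G)⁻¹) * c =
          (c⁻¹ * v * c) * (c⁻¹ * k * c) * (c⁻¹ * v * c)⁻¹ * (c⁻¹ * (k : G) * c)⁻¹ by group]
        exact mul_mem (mul_mem (mul_mem hvc hkc) (inv_mem hvc)) (inv_mem hkc)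
      have heodd : Odd (orderOf (⟨e, heM⟩ : M)) := by
        rw [← Subgroup.orderOf_coe]
        have hm := hD1 ⟨e, heL⟩ heM hec
        refine hset.odd_card.of_dvd_nat ?_
        have := orderOf_dvd_natCard (⟨_, hm⟩ : (MulAction.stabilizer L a ⊓ MulAction.stabilizer L (t • a) :
          Subgroup L))
        rwa [Subgroup.orderOf_mk, ← Subgroup.orderOf_coe] at this
      have hq0 : u * k * u⁻¹ * (k : G)⁻¹ ∈ Q := by
        rw [show u * k * u⁻¹ * (k : G)⁻¹ = u * (k * u⁻¹ * (k : G)⁻¹) by group]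
        exact mul_mem hu (hconjQ k hkM _ (inv_mem hu))
      -- `e` is congruent to an element of `S`
      set sM : M := ⟨s, hSle hs⟩
      set kM : M := ⟨k, hkM⟩
      have hrel : π ⟨e, heM⟩ = π sM * (π kM * (π sM)⁻¹ * (π kM)⁻¹) := by
        rw [← map_inv, ← map_inv, ← map_mul, ← map_mul, ← map_mul, ← mul_inv_eq_one, ← map_inv, ← map_mul, hπ1]
        show e * ((s : G) * ((k : G) * (s : G)⁻¹ * (k : G)⁻¹))⁻¹ ∈ Q
        have : e * ((s : G) * ((k : G) * (s : G)⁻¹ * (k : G)⁻¹))⁻¹ =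
            (s : G) * (u * k * u⁻¹ * (k : G)⁻¹) * (s : G)⁻¹ := by
          rw [he, hv]; group
        rw [this]
        exact hconjQ _ (hSle hs) _ hq0
      have hsk : (⟨(k : G) * (s : G)⁻¹ * (k : G)⁻¹,
          (inferInstance : L.Normal).conj_mem _ (inv_mem s.2) k⟩ : L) ∈ S :=
        (mem_normalizer_iff.1 (hSn ((hstab k).1 hkJ.1.1)) s⁻¹).1 (inv_mem hs)
      obtain ⟨i, hi⟩ := hS2 ⟨s * ⟨(k : G) * (s : G)⁻¹ * (k : G)⁻¹,
        (inferInstance : L.Normal).conj_mem _ (inv_mem s.2) k⟩, mul_mem hs hsk⟩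
      have hi' : ((s : G) * ((k : G) * (s : G)⁻¹ * (k : G)⁻¹)) ^ 2 ^ i = 1 :=
        congrArg (fun x : S => ((x : L) : G)) hi
      have h2 : π ⟨e, heM⟩ ^ 2 ^ i = 1 := by
        rw [hrel, ← map_inv, ← map_inv, ← map_mul, ← map_mul, ← map_mul, ← map_pow]
        convert map_one π
        exact Subtype.ext hi'
      have h3 : π ⟨e, heM⟩ = 1 := by
        refine orderOf_eq_one_iff.1 (Nat.dvd_one.1 ?_)
        have hg := Nat.dvd_gcd (orderOf_map_dvd π ⟨e, heM⟩) (orderOf_dvd_of_pow_eq_one h2)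
        rwa [Nat.Coprime.gcd_eq_one ((Nat.coprime_two_right.2 heodd).pow_right i)] at hg
      rw [h3, eq_comm, ← map_inv, ← map_inv, ← map_mul, ← map_mul, ← map_mul, hπ1] at hrel
      simpa [mul_assoc] using hrel
    -- `k` moves every coset of `S` over `X`
    set X : Subgroup L := S ⊓ Q.subgroupOf L with hX
    have hXk : ∀ x : X, k * (x : L) * k⁻¹ ∈ X := fun x => by
      refine ⟨(mem_normalizer_iff.1 (hSn ((hstab k).1 hkJ.1.1)) _).1 x.2.1, ?_⟩
      show (k : G) * ((x : L) : G) * (k : G)⁻¹ ∈ Q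
      exact hconjQ k ((hstab k).1 hkJ.1.1) _ x.2.2
    let φ : X → X := fun x => ⟨(x : L) * (k * (x : L) * k⁻¹)⁻¹, mul_mem x.2 (inv_mem (hXk x))⟩
    have hφ : Function.Injective φ := fun x y e => by
      have e' : (x : L) * (k * (x : L) * k⁻¹)⁻¹ = (y : L) * (k * (y : L) * k⁻¹)⁻¹ := congrArg Subtype.val e
      have h1 : k * ((y : L)⁻¹ * x) * k⁻¹ = (y : L)⁻¹ * x := by
        calc k * ((y : L)⁻¹ * x) * k⁻¹ = (k * (y : L) * k⁻¹)⁻¹ * (k * (x : L) * k⁻¹) := by group
          _ = (y : L)⁻¹ * ((y : L) * (k * (y : L) * k⁻¹)⁻¹) * (k * (x : L) * k⁻¹) := by group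
          _ = (y : L)⁻¹ * x := by rw [← e']; group
      exact Subtype.ext (inv_mul_eq_one.1 (hk _ (mul_mem (inv_mem y.2.1) x.2.1) h1)).symm
    have hy : s⁻¹ * (k * s * k⁻¹) ∈ X := by
      refine ⟨mul_mem (S.inv_mem hs) ((mem_normalizer_iff.1 (hSn (show k ∈ M.subgroupOf L from (hstab k).1 hkJ.1.1)) s).1 hs), ?_⟩
      show (s : G)⁻¹ * ((k : G) * (s : G) * (k : G)⁻¹) ∈ Q
      have h1 := hconjQ _ (inv_mem (show (s : G) ∈ M from hSle hs)) _ (inv_mem hkQ)
      simpa [mul_assoc] using h1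
    obtain ⟨x, hx⟩ := (Finite.injective_iff_surjective.1 hφ) ⟨_, hy⟩
    have hx' : (x : L) * (k * (x : L) * k⁻¹)⁻¹ = s⁻¹ * (k * s * k⁻¹) := congrArg Subtype.val hx
    have hsx : s * (x : L) = 1 := hk _ (mul_mem hs x.2.1) (by
      calc k * (s * (x : L)) * k⁻¹ = s * (s⁻¹ * (k * s * k⁻¹)) * (k * (x : L) * k⁻¹) := by group
        _ = s * x := by rw [← hx']; group)
    rw [hv]
    refine mul_mem ?_ hu
    rw [eq_inv_of_mul_eq_one_left hsx]
    exact inv_mem x.2.2

/-- **The involutions of `M` in the closure of `Q` lie in `L`.** -/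
theorem invol_mem {t : G} (ht : t ∈ normalClosure (Q : Set G)) (htM : t ∈ M) (hto : orderOf t = 2) :
    t ∈ normalClosure ({z} : Set G) := by
  set L := normalClosure ({z} : Set G) with hL
  haveI : L.Normal := normalClosure_normal
  by_cases hp : CfsgLib.Bender.HasPair ↥L
  · obtain ⟨l, hl, q, hq, rfl⟩ := mem_sup_of_normal_left.1 (h.closure_le h.exists_eq_mul ht)
    obtain ⟨i, j, he, ⟨a, ha⟩, hodd⟩ := exists_two_odd q
    have hqi : q ^ i ∈ L := h.two_mem_closure hp a _ (pow_mem hq i) ha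
    refine mul_mem hl ?_
    have hq2 : QuotientGroup.mk' L q = 1 := by
      have h1 : QuotientGroup.mk' L (l * q) = QuotientGroup.mk' L q := by
        rw [map_mul, show QuotientGroup.mk' L l = 1 from (QuotientGroup.eq_one_iff l).2 hl, one_mul]
      have h2 : QuotientGroup.mk' L q = QuotientGroup.mk' L (q ^ j) := by
        nth_rw 1 [he]
        rw [map_mul, show QuotientGroup.mk' L (q ^ i) = 1 from (QuotientGroup.eq_one_iff _).2 hqi, one_mul]
      refine orderOf_eq_one_iff.1 (Nat.dvd_one.1 ?_)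
      have hg : orderOf (QuotientGroup.mk' L q) ∣ Nat.gcd 2 (orderOf (q ^ j)) :=
        Nat.dvd_gcd (by rw [← h1, ← hto]; exact orderOf_map_dvd _ _) (by rw [h2]; exact orderOf_map_dvd _ _)
      rwa [Nat.Coprime.gcd_eq_one (Nat.coprime_two_left.2 hodd)] at hg
    exact (QuotientGroup.eq_one_iff q).1 hq2
  · obtain ⟨N, hNn, hNL, hNodd, hNM⟩ := h.exists_odd_of_not_pair hp
    haveI := hNn
    obtain ⟨l, hl, q, hq, rfl⟩ := mem_sup_of_normal_left.1 (h.closure_le hNM ht)
    obtain ⟨i, j, he, ⟨a, ha⟩, hodd⟩ := exists_two_odd q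
    set u := q ^ i with hu
    have hqj : QuotientGroup.mk' N (q ^ j) = 1 := by
      have h1 : orderOf (QuotientGroup.mk' N q) ∣ 2 := by
        rw [show QuotientGroup.mk' N q = QuotientGroup.mk' N (l * q) by
          rw [map_mul, show QuotientGroup.mk' N l = 1 from (QuotientGroup.eq_one_iff l).2 hl, one_mul],
          ← hto]
        exact orderOf_map_dvd _ _
      refine orderOf_eq_one_iff.1 (Nat.dvd_one.1 ?_)
      have h2 : orderOf (QuotientGroup.mk' N (q ^ j)) ∣ orderOf (QuotientGroup.mk' N q) := by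
        rw [map_pow]; exact orderOf_pow_dvd j
      have hg : orderOf (QuotientGroup.mk' N (q ^ j)) ∣ Nat.gcd 2 (orderOf (q ^ j)) :=
        Nat.dvd_gcd (h2.trans h1) (orderOf_map_dvd _ _)
      rwa [Nat.Coprime.gcd_eq_one (Nat.coprime_two_left.2 hodd)] at hg
    refine mul_mem (hNL hl) ?_
    rw [he]
    refine mul_mem ?_ (hNL ((QuotientGroup.eq_one_iff _).1 hqj))
    -- `u * u` lies in `N`, so `u` is `1` or an involution
    have huu : u * u ∈ N := by
      refine (QuotientGroup.eq_one_iff _).1 (show QuotientGroup.mk' N (u * u) = 1 from ?_)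
      have h1 : QuotientGroup.mk' N (l * q) = QuotientGroup.mk' N u := by
        rw [map_mul, show QuotientGroup.mk' N l = 1 from (QuotientGroup.eq_one_iff l).2 hl, one_mul]
        nth_rw 1 [he]
        rw [map_mul, hqj, mul_one]
      rw [map_mul, ← h1, ← map_mul, invol_mul_self hto, map_one]
    have hu1 : u * u = 1 := CfsgLib.Bender.Full.eq_of_two_element hNodd huu (k := a) (by
      rw [← pow_two, ← pow_mul, mul_comm, pow_mul, ha, one_pow])
    by_cases hu0 : u = 1
    · rw [hu0]; exact one_mem _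
    · exact h.mem_closure_of_invol (pow_mem hq i) (invol_iff.2 ⟨hu1, hu0⟩)

end Red

end CfsgLib.Tight
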